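import Mathlib

/-!
# The power graph determines the edges of the prime graph

If `x` generates a maximal cyclic subgroup whose order is not a prime power, its image under an
isomorphism of power graphs fixing `1` has the same order.
-/

namespace CfsgLib.PowerGraph

set_option autoImplicit false

open scoped Classical

variable {G H : Type*} [Group G] [Group H]

/-- Adjacency (or equality) in the power graph. -/
def Adj (u v : G) : Prop := u ∈ Subgroup.zpowers v ∨ v ∈ Subgroup.zpowers u

/-- Equal closed neighbourhoods. -/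
def Twin (y w : G) : Prop := ∀ u, Adj u y ↔ Adj u w

theorem Adj.refl (u : G) : Adj u u := Or.inl (Subgroup.mem_zpowers u)

theorem Adj.symm {u v : G} (h : Adj u v) : Adj v u := Or.symm h

theorem adj_one (u : G) : Adj (1 : G) u := Or.inl (one_mem _)

theorem twin_of_zpowers_eq {y w : G} (h : Subgroup.zpowers y = Subgroup.zpowers w) : Twin y w := by
  intro u
  simp only [Adj, ← Subgroup.zpowers_le, h]

variable [Finite G] [Finite H]

/-- Inside a cyclic subgroup, divisibility of orders is containment. -/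
theorem mem_zpowers_of_dvd {x u v : G} (hu : u ∈ Subgroup.zpowers x)
    (hv : v ∈ Subgroup.zpowers x) (h : orderOf u ∣ orderOf v) : u ∈ Subgroup.zpowers v := by
  classical
  haveI := Fintype.ofFinite (Subgroup.zpowers x)
  set K := Subgroup.zpowers x
  set m := orderOf v with hm
  set v' : K := ⟨v, hv⟩ with hv'
  have hm0 : 0 < m := orderOf_pos v
  have hv'm : orderOf v' = m := Subgroup.orderOf_mk v hv
  have hsub : (Finset.range m).image (fun i => v' ^ i) ⊆
      Finset.univ.filter (fun a : K => a ^ m = 1) := by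
    intro a ha
    obtain ⟨i, -, rfl⟩ := Finset.mem_image.mp ha
    simp only [Finset.mem_filter, Finset.mem_univ, true_and]
    rw [← pow_mul, mul_comm, pow_mul, ← hv'm, pow_orderOf_eq_one, one_pow]
  have hcard : ((Finset.range m).image (fun i => v' ^ i)).card = m := by
    rw [Finset.card_image_of_injOn, Finset.card_range]
    intro i hi j hj hij
    exact pow_injOn_Iio_orderOf (by simpa [hv'm] using hi) (by simpa [hv'm] using hj) hij
  have heq := Finset.eq_of_subset_of_card_le hsub
    (hcard.symm ▸ IsCyclic.card_pow_eq_one_le (α := K) hm0)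
  have hmem : (⟨u, hu⟩ : K) ∈ Finset.univ.filter (fun a : K => a ^ m = 1) := by
    simp only [Finset.mem_filter, Finset.mem_univ, true_and]
    ext
    exact orderOf_dvd_iff_pow_eq_one.mp h
  rw [← heq] at hmem
  obtain ⟨i, -, hi⟩ := Finset.mem_image.mp hmem
  exact ⟨i, by simpa [hv'] using congrArg Subtype.val hi⟩

theorem dvd_or_dvd {u v : G} (h : Adj u v) : orderOf u ∣ orderOf v ∨ orderOf v ∣ orderOf u :=
  h.imp orderOf_dvd_of_mem_zpowers orderOf_dvd_of_mem_zpowers

theorem adj_iff {x u v : G} (hu : u ∈ Subgroup.zpowers x) (hv : v ∈ Subgroup.zpowers x) :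
    Adj u v ↔ (orderOf u ∣ orderOf v ∨ orderOf v ∣ orderOf u) :=
  ⟨dvd_or_dvd, fun h => h.imp (mem_zpowers_of_dvd hu hv) (mem_zpowers_of_dvd hv hu)⟩

/-- The full `r`-part of `x`. -/
noncomputable def part (x : G) (r : ℕ) : G := x ^ (orderOf x / r ^ (orderOf x).factorization r)

theorem part_mem (x : G) (r : ℕ) : part x r ∈ Subgroup.zpowers x :=
  Subgroup.pow_mem _ (Subgroup.mem_zpowers x) _

theorem orderOf_part (x : G) (r : ℕ) :
    orderOf (part x r) = r ^ (orderOf x).factorization r := by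
  have h0 : orderOf x ≠ 0 := (orderOf_pos x).ne'
  have hd := Nat.ordProj_dvd (orderOf x) r
  rw [part, orderOf_pow_of_dvd
    (Nat.ne_of_gt (Nat.div_pos (Nat.le_of_dvd (orderOf_pos x) hd) (Nat.pos_of_dvd_of_pos hd (orderOf_pos x))))
    (Nat.div_dvd_of_dvd hd), Nat.div_div_self hd h0]

theorem coprime_parts {n r s : ℕ} (hr : r.Prime) (hs : s.Prime) (hne : r ≠ s) :
    (r ^ n.factorization r).Coprime (s ^ n.factorization s) :=
  Nat.Coprime.pow _ _ ((Nat.coprime_primes hr hs).mpr hne)

theorem one_lt_part {n r : ℕ} (hn : n ≠ 0) (hr : r.Prime) (hrn : r ∣ n) :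
    1 < r ^ n.factorization r :=
  Nat.one_lt_pow (hr.factorization_pos_of_dvd hn hrn).ne' hr.one_lt

theorem not_dvd_parts {n r s : ℕ} (hn : n ≠ 0) (hr : r.Prime) (hs : s.Prime) (hne : r ≠ s)
    (hrn : r ∣ n) : ¬ r ^ n.factorization r ∣ s ^ n.factorization s := fun h =>
  (one_lt_part hn hr hrn).ne' ((coprime_parts hr hs hne).eq_one_of_dvd h)

theorem parts_not_adj {x : G} {r s : ℕ} (hr : r.Prime) (hs : s.Prime) (hne : r ≠ s)
    (hrn : r ∣ orderOf x) (hsn : s ∣ orderOf x) : ¬ Adj (part x r) (part x s) := by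
  intro h
  have h0 := (orderOf_pos x).ne'
  have := dvd_or_dvd h
  rw [orderOf_part, orderOf_part] at this
  exact this.elim (not_dvd_parts h0 hr hs hne hrn) (not_dvd_parts h0 hs hr hne.symm hsn)

/-- A divisor comparable with every full prime part is trivial or everything. -/
theorem exists_incomparable {n m : ℕ} (hn : n ≠ 0) (hm : m ∣ n) (hm1 : m ≠ 1) (hmn : m ≠ n)
    (hp : ∀ r, r.Prime → r ∣ n → ∃ s, s.Prime ∧ s ∣ n ∧ s ≠ r) :
    ∃ r, r.Prime ∧ r ∣ n ∧ ¬ (m ∣ r ^ n.factorization r ∨ r ^ n.factorization r ∣ m) := by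
  by_contra h
  push Not at h
  by_cases hall : ∀ r, r.Prime → r ∣ n → r ^ n.factorization r ∣ m
  · refine hmn (Nat.dvd_antisymm hm ((Nat.dvd_iff_prime_pow_dvd_dvd _ _).mpr fun r k hr hk => ?_))
    rcases eq_or_ne k 0 with rfl | hk0
    · simp
    · exact (Nat.pow_dvd_pow r ((hr.pow_dvd_iff_le_factorization hn).mp hk)).trans
        (hall r hr ((dvd_pow_self r hk0).trans hk))
  · push Not at hall
    obtain ⟨r, hr, hrn, hrm⟩ := hall
    have hmr : m ∣ r ^ n.factorization r := (h r hr hrn).resolve_right hrm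
    obtain ⟨s, hs, hsn, hsr⟩ := hp r hr hrn
    rcases h s hs hsn with hms | hsm
    · exact hm1 (Nat.eq_one_of_dvd_coprimes (coprime_parts hr hs hsr.symm) hmr hms)
    · exact not_dvd_parts hn hs hr hsr hsn (hsm.trans hmr)

theorem two_primes {n : ℕ} (hn : 1 < n) (hnp : ¬ IsPrimePow n) :
    ∀ r, r.Prime → r ∣ n → ∃ s, s.Prime ∧ s ∣ n ∧ s ≠ r := by
  intro r hr _
  by_contra h
  push Not at h
  have := Nat.eq_prime_pow_of_unique_prime_dvd (p := r) (n := n) (by omega) (fun hs hsn => h _ hs hsn)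
  refine hnp (this ▸ hr.isPrimePow.pow ?_)
  intro h0
  rw [h0, pow_zero] at this
  omega

/-- Twins in different cyclic subgroups: the larger has prime power order. -/
theorem isPrimePow_of_twin {y w : G} (ht : Twin y w) (hy : y ∈ Subgroup.zpowers w)
    (hw : w ∉ Subgroup.zpowers y) (hy1 : y ≠ 1) : IsPrimePow (orderOf w) := by
  by_contra hnp
  have hn1 : 1 < orderOf w := by
    by_contra h
    have : orderOf w = 1 := by have := orderOf_pos w; omega
    rw [orderOf_eq_one_iff.mp this] at hw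
    exact hw (one_mem _)
  obtain ⟨r, -, -, hr⟩ := exists_incomparable (by omega) (orderOf_dvd_of_mem_zpowers hy)
    (fun h => hy1 (orderOf_eq_one_iff.mp h))
    (fun h => hw (mem_zpowers_of_dvd (Subgroup.mem_zpowers w) hy h.symm.dvd))
    (two_primes hn1 hnp)
  have h2 := dvd_or_dvd ((ht (part w r)).mpr (Or.inl (part_mem w r)))
  rw [orderOf_part] at h2
  exact hr h2.symm

/-- The number of generators of a cyclic subgroup. -/
theorem card_generators [Fintype G] (w : G) :
    (Finset.univ.filter fun v => Subgroup.zpowers v = Subgroup.zpowers w).card =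
      (orderOf w).totient := by
  classical
  haveI := Fintype.ofFinite (Subgroup.zpowers w)
  rw [← IsCyclic.card_orderOf_eq_totient (α := Subgroup.zpowers w) (d := orderOf w)
    (by rw [← Nat.card_eq_fintype_card, Nat.card_zpowers]),
    ← Finset.card_image_of_injective _ Subtype.val_injective]
  refine congrArg Finset.card ?_
  ext v
  simp only [Finset.mem_filter, Finset.mem_univ, true_and, Finset.mem_image]
  constructor
  · intro h
    refine ⟨⟨v, h ▸ Subgroup.mem_zpowers v⟩, ?_, rfl⟩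
    rw [Subgroup.orderOf_mk, ← Nat.card_zpowers, h, Nat.card_zpowers]
  · rintro ⟨a, ha, rfl⟩
    refine Subgroup.eq_of_le_of_card_ge (Subgroup.zpowers_le.mpr a.2) ?_
    rw [Nat.card_zpowers, Nat.card_zpowers, Subgroup.orderOf_coe, ha]

/-- A set closed under changing generators. -/
theorem dvd_card_of_closed [Fintype G] (T : Finset G) (d : ℕ)
    (hT : ∀ v ∈ T, ∀ u, Subgroup.zpowers u = Subgroup.zpowers v → u ∈ T)
    (hd : ∀ v ∈ T, d ∣ (orderOf v).totient) : d ∣ T.card := by
  classical
  rw [Finset.card_eq_sum_card_image (fun v => Subgroup.zpowers v) T]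
  refine Finset.dvd_sum fun L hL => ?_
  obtain ⟨w, hw, rfl⟩ := Finset.mem_image.mp hL
  have : T.filter (fun v => Subgroup.zpowers v = Subgroup.zpowers w) =
      Finset.univ.filter (fun v => Subgroup.zpowers v = Subgroup.zpowers w) := by
    ext v
    simp only [Finset.mem_filter, Finset.mem_univ, true_and]
    exact ⟨And.right, fun h => ⟨hT w hw v h, h⟩⟩
  rw [this, card_generators]
  exact hd w hw

/-- The arithmetic excluding the exceptional case. -/
theorem no_small_class {n p t : ℕ} (hp : p.Prime) (ht : 0 < t) (hn : 1 < n)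
    (hnp : ¬ IsPrimePow n) (hP : n.totient + 1 = p ^ t)
    (hd : ∀ r, r.Prime → r ∣ n → (p ^ t).totient ∣ r ^ n.factorization r - 1) : False := by
  have hn0 : n ≠ 0 := by omega
  -- `p ^ t ≤ 2 φ(p ^ t)`
  have hhalf : ∀ q a : ℕ, q.Prime → 0 < a → q ^ a ≤ 2 * (q ^ a).totient := by
    intro q a hq ha
    rw [Nat.totient_prime_pow hq ha]
    obtain ⟨b, rfl⟩ := Nat.exists_eq_succ_of_ne_zero ha.ne'
    rw [Nat.succ_sub_one, pow_succ]
    have h2 := hq.two_le
    calc q ^ b * q ≤ q ^ b * (2 * (q - 1)) := Nat.mul_le_mul_left _ (by omega)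
      _ = 2 * (q ^ b * (q - 1)) := by ring
  -- both cofactors have totient at most `3`
  have hsmall : ∀ r, r.Prime → r ∣ n → (n / r ^ n.factorization r).totient ≤ 3 := by
    intro r hr hrn
    set a := n.factorization r with ha
    set m := n / r ^ a with hm
    have hap : 0 < a := hr.factorization_pos_of_dvd hn0 hrn
    have hprod : r ^ a * m = n := Nat.ordProj_mul_ordCompl_eq_self n r
    have htot : n.totient = (r ^ a).totient * m.totient := by
      rw [← Nat.totient_mul (Nat.Coprime.pow_left _ (Nat.coprime_ordCompl hr hn0)), hprod]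
    have h1 := hhalf p t hp ht
    have h2 : (p ^ t).totient ≤ r ^ a - 1 :=
      Nat.le_of_dvd (by have : 1 < r ^ a := one_lt_part hn0 hr hrn; omega) (hd r hr hrn)
    have h3 := hhalf r a hr hap
    by_contra h
    have h4 : (r ^ a).totient * 4 ≤ (r ^ a).totient * m.totient :=
      Nat.mul_le_mul_left _ (show 4 ≤ m.totient from Nat.lt_of_not_le h)
    rw [← htot] at h4
    generalize (r ^ a).totient = A at *
    generalize r ^ a = R at *
    generalize (p ^ t).totient = B at *
    omega
  -- so every prime divisor is `2` or `3`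
  have htwo : ∀ r, r.Prime → r ∣ n → r ^ n.factorization r ≤ 4 ∧ r ≤ 3 := by
    intro r hr hrn
    obtain ⟨s, hs, hsn, hsr⟩ := two_primes hn hnp r hr hrn
    have hdvd : r ^ n.factorization r ∣ n / s ^ n.factorization s := by
      refine (coprime_parts hr hs hsr.symm).dvd_of_dvd_mul_left ?_
      rw [Nat.ordProj_mul_ordCompl_eq_self]
      exact Nat.ordProj_dvd n r
    have hle : (r ^ n.factorization r).totient ≤ 3 :=
      le_trans (Nat.le_of_dvd (Nat.totient_pos.mpr (Nat.div_pos
        (Nat.le_of_dvd (by omega) (Nat.ordProj_dvd n s))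
        (pow_pos hs.pos _))) (Nat.totient_dvd_of_dvd hdvd)) (hsmall s hs hsn)
    have hap : 0 < n.factorization r := hr.factorization_pos_of_dvd hn0 hrn
    rw [Nat.totient_prime_pow hr hap] at hle
    have h2 := hr.two_le
    obtain ⟨b, hb⟩ := Nat.exists_eq_succ_of_ne_zero hap.ne'
    rw [hb, Nat.succ_sub_one] at hle
    rw [hb, pow_succ]
    have hb1 : 1 ≤ r ^ b := Nat.one_le_pow _ _ (by omega)
    have hr4 : r ≤ 4 := by
      by_contra h
      have : 1 * 4 ≤ r ^ b * (r - 1) := Nat.mul_le_mul hb1 (by omega)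
      omega
    interval_cases r
    · have : b ≤ 1 := by
        by_contra h
        have : 2 ^ 2 ≤ 2 ^ b := Nat.pow_le_pow_right (by norm_num) (by omega)
        omega
      interval_cases b <;> simp
    · have : b = 0 := by
        by_contra h
        have : 3 ^ 1 ≤ 3 ^ b := Nat.pow_le_pow_right (by norm_num) (by omega)
        omega
      subst this; simp
    · norm_num at hr
  -- hence `n ∈ {6, 12}`
  obtain ⟨r, hr, hrn⟩ := Nat.exists_prime_and_dvd (show n ≠ 1 by omega)
  obtain ⟨s, hs, hsn, hsr⟩ := two_primes hn hnp r hr hrn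
  have h23 : ∀ q, q.Prime → q ∣ n → q = 2 ∨ q = 3 := fun q hq hqn => by
    have := (htwo q hq hqn).2
    have := hq.two_le
    omega
  have h2n : 2 ∣ n ∧ 3 ∣ n := by
    rcases h23 r hr hrn with rfl | rfl <;> rcases h23 s hs hsn with rfl | rfl <;> tauto
  have hpf : n.primeFactors = {2, 3} := by
    ext q
    simp only [Nat.mem_primeFactors, Finset.mem_insert, Finset.mem_singleton]
    constructor
    · exact fun h => h23 q h.1 h.2.1
    · rintro (rfl | rfl)
      · exact ⟨Nat.prime_two, h2n.1, hn0⟩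
      · exact ⟨Nat.prime_three, h2n.2, hn0⟩
  have hn' : n = 2 ^ n.factorization 2 * 3 ^ n.factorization 3 := by
    conv_lhs => rw [← Nat.prod_factorization_pow_eq_self hn0]
    rw [Finsupp.prod, Nat.support_factorization, hpf, Finset.prod_insert (by simp),
      Finset.prod_singleton]
  have ha := (htwo 2 Nat.prime_two h2n.1).1
  have hb := (htwo 3 Nat.prime_three h2n.2).1
  have ha0 := Nat.prime_two.factorization_pos_of_dvd hn0 h2n.1
  have hb0 := Nat.prime_three.factorization_pos_of_dvd hn0 h2n.2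
  have ha2 : n.factorization 2 ≤ 2 :=
    (Nat.pow_le_pow_iff_right (show 1 < 2 by norm_num)).mp (ha.trans (by norm_num))
  have hb1 : n.factorization 3 ≤ 1 := by
    by_contra h
    have : 3 ^ 2 ≤ 3 ^ n.factorization 3 := Nat.pow_le_pow_right (by norm_num) (by omega)
    omega
  have hd2 := hd 2 Nat.prime_two h2n.1
  rw [show n.factorization 3 = 1 by omega] at hn'
  rcases (by omega : n.factorization 2 = 1 ∨ n.factorization 2 = 2) with h | h
  · rw [h] at hn' hd2
    rw [hn', show ((2 ^ 1 * 3 ^ 1 : ℕ)).totient = 2 by decide] at hP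
    rw [← hP, show (2 + 1 : ℕ).totient = 2 by decide] at hd2
    norm_num at hd2
  · rw [h] at hn' hd2
    rw [hn', show ((2 ^ 2 * 3 ^ 1 : ℕ)).totient = 4 by decide] at hP
    rw [← hP, show (4 + 1 : ℕ).totient = 4 by decide] at hd2
    norm_num at hd2

/-- An isomorphism fixing `1` keeps the order of a maximal cyclic generator of non-prime-power
order. -/
theorem orderOf_image (e : G ≃ H) (he : ∀ u v, Adj u v ↔ Adj (e u) (e v)) (he1 : e 1 = 1) (x : G)
    (hnp : ¬ IsPrimePow (orderOf x)) (hn : 1 < orderOf x)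
    (hmax : ∀ u, x ∈ Subgroup.zpowers u → u ∈ Subgroup.zpowers x) :
    orderOf (e x) = orderOf x := by
  classical
  haveI := Fintype.ofFinite G
  haveI := Fintype.ofFinite H
  set n := orderOf x with hndef
  set y := e x with hy
  have hn0 : n ≠ 0 := by omega
  have hprimes := two_primes hn hnp
  -- the neighbours of `x`
  have hS : ∀ u, Adj u x ↔ u ∈ Subgroup.zpowers x := fun u =>
    ⟨fun h => h.elim id (hmax u), Or.inl⟩
  have hU : ∀ u, Adj (e u) y ↔ u ∈ Subgroup.zpowers x := fun u => (he u x).symm.trans (hS u)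
  by_cases hup : ∀ w, y ∈ Subgroup.zpowers w → w ∈ Subgroup.zpowers y
  · show orderOf y = orderOf x
    rw [← Nat.card_zpowers, ← Nat.card_zpowers]
    refine (Nat.card_congr (e.subtypeEquiv fun u => ?_)).symm
    rw [← hU]
    exact ⟨fun h => h.elim id (hup _), Or.inl⟩
  exfalso
  push Not at hup
  obtain ⟨w0, hyw0, hw0⟩ := hup
  have hy1 : y ≠ 1 := fun h => by
    rw [hy, ← he1] at h
    rw [e.injective h, orderOf_one] at hndef
    omega
  have htw : ∀ a b : G, Twin (e a) (e b) ↔ Twin a b := fun a b =>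
    ⟨fun h u => ((he u a).trans (h (e u))).trans (he u b).symm,
      fun h v => by
        obtain ⟨u, rfl⟩ := e.surjective v
        exact ((he u a).symm.trans (h u)).trans (he u b)⟩
  -- twins of `x`
  have hxtwin : ∀ u, u ≠ 1 → (Twin u x ↔ Subgroup.zpowers u = Subgroup.zpowers x) := by
    refine fun u hu1 => ⟨fun h => ?_, twin_of_zpowers_eq⟩
    have hux := (hS u).mp ((h u).mp (Adj.refl u))
    refine le_antisymm (Subgroup.zpowers_le.mpr hux) (Subgroup.zpowers_le.mpr ?_)
    by_contra hne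
    exact hnp (isPrimePow_of_twin h hux hne hu1)
  -- a non-generator is incomparable with some full part
  have hinc : ∀ u ∈ Subgroup.zpowers x, u ≠ 1 → x ∉ Subgroup.zpowers u →
      ∃ r, r.Prime ∧ r ∣ n ∧ ¬ Adj u (part x r) := by
    intro u hu hu1 hxu
    obtain ⟨r, hr, hrn, h⟩ := exists_incomparable hn0 (orderOf_dvd_of_mem_zpowers hu)
      (fun h => hu1 (orderOf_eq_one_iff.mp h))
      (fun h => hxu (mem_zpowers_of_dvd (Subgroup.mem_zpowers x) hu h.symm.dvd)) hprimes
    refine ⟨r, hr, hrn, fun hadj => h ?_⟩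
    have := dvd_or_dvd hadj
    rwa [orderOf_part] at this
  have hpart : ∀ r, r.Prime → r ∣ n →
      part x r ≠ 1 ∧ x ∉ Subgroup.zpowers (part x r) := by
    intro r hr hrn
    constructor
    · intro h
      have := orderOf_part x r
      rw [h, orderOf_one] at this
      exact (one_lt_part hn0 hr hrn).ne this
    · intro h
      have h1 := orderOf_dvd_of_mem_zpowers h
      rw [orderOf_part] at h1
      obtain ⟨s, hs, hsn, hsr⟩ := hprimes r hr hrn
      exact hsr ((Nat.prime_dvd_prime_iff_eq hs hr).mp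
        (hs.dvd_of_dvd_pow (hsn.trans h1)))
  -- the two sides
  have hside : (∀ u ∈ Subgroup.zpowers x, u ≠ 1 → x ∉ Subgroup.zpowers u →
        y ∈ Subgroup.zpowers (e u) ∧ e u ∉ Subgroup.zpowers y) ∨
      (∀ u ∈ Subgroup.zpowers x, u ≠ 1 → x ∉ Subgroup.zpowers u →
        e u ∈ Subgroup.zpowers y ∧ y ∉ Subgroup.zpowers (e u)) := by
    have hdich : ∀ u ∈ Subgroup.zpowers x, u ≠ 1 → x ∉ Subgroup.zpowers u →
        (y ∈ Subgroup.zpowers (e u) ∧ e u ∉ Subgroup.zpowers y) ∨
          (e u ∈ Subgroup.zpowers y ∧ y ∉ Subgroup.zpowers (e u)) := by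
      intro u hu hu1 hxu
      have hne : ¬ Subgroup.zpowers (e u) = Subgroup.zpowers y := fun h =>
        hxu (((hxtwin u hu1).mp ((htw u x).mp (twin_of_zpowers_eq h))).ge (Subgroup.mem_zpowers x))
      rcases (hU u).mpr hu with h | h
      · exact Or.inr ⟨h, fun h' => hne (le_antisymm (Subgroup.zpowers_le.mpr h)
          (Subgroup.zpowers_le.mpr h'))⟩
      · exact Or.inl ⟨h, fun h' => hne (le_antisymm (Subgroup.zpowers_le.mpr h')
          (Subgroup.zpowers_le.mpr h))⟩
    have hopp : ∀ a b : G, y ∈ Subgroup.zpowers (e a) → e b ∈ Subgroup.zpowers y → Adj a b :=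
      fun a b ha hb => (he a b).mpr (Or.inr (Subgroup.zpowers_le.mpr ha hb))
    obtain ⟨r0, hr0, hr0n⟩ := Nat.exists_prime_and_dvd (show n ≠ 1 by omega)
    have hsame : ∀ r, r.Prime → r ∣ n → ∀ u ∈ Subgroup.zpowers x, u ≠ 1 → x ∉ Subgroup.zpowers u →
        ¬ Adj u (part x r) → (y ∈ Subgroup.zpowers (e u) ↔ y ∈ Subgroup.zpowers (e (part x r))) := by
      intro r hr hrn u hu hu1 hxu hna
      obtain ⟨h1, h2⟩ := hpart r hr hrn
      rcases hdich u hu hu1 hxu with a | a <;> rcases hdich _ (part_mem x r) h1 h2 with b | b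
      · exact iff_of_true a.1 b.1
      · exact absurd (hopp _ _ a.1 b.1) hna
      · exact absurd (hopp _ _ b.1 a.1).symm hna
      · exact iff_of_false a.2 b.2
    have hall : ∀ u ∈ Subgroup.zpowers x, u ≠ 1 → x ∉ Subgroup.zpowers u →
        (y ∈ Subgroup.zpowers (e u) ↔ y ∈ Subgroup.zpowers (e (part x r0))) := by
      intro u hu hu1 hxu
      obtain ⟨r, hr, hrn, hna⟩ := hinc u hu hu1 hxu
      refine (hsame r hr hrn u hu hu1 hxu hna).trans ?_
      rcases eq_or_ne r r0 with rfl | hne
      · exact Iff.rfl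
      · obtain ⟨h1, h2⟩ := hpart r hr hrn
        exact hsame r0 hr0 hr0n _ (part_mem x r) h1 h2 (parts_not_adj hr hr0 hne hrn hr0n)
    obtain ⟨h1, h2⟩ := hpart r0 hr0 hr0n
    rcases hdich _ (part_mem x r0) h1 h2 with a | a
    · left
      intro u hu hu1 hxu
      exact (hdich u hu hu1 hxu).resolve_right fun b => b.2 ((hall u hu hu1 hxu).mpr a.1)
    · right
      intro u hu hu1 hxu
      exact (hdich u hu hu1 hxu).resolve_left fun b => a.2 ((hall u hu hu1 hxu).mp b.1)
  -- an element of `U` on neither strict side is a twin of `y`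
  have hdom : ∀ u ∈ Subgroup.zpowers x, u ≠ 1 → x ∈ Subgroup.zpowers u → Twin (e u) y := by
    intro u hu _ hxu
    exact (htw u x).mpr (twin_of_zpowers_eq (le_antisymm (Subgroup.zpowers_le.mpr hu)
      (Subgroup.zpowers_le.mpr hxu)))
  obtain ⟨r0, hr0, hr0n⟩ := Nat.exists_prime_and_dvd (show n ≠ 1 by omega)
  obtain ⟨s0, hs0, hs0n, hsr0⟩ := hprimes r0 hr0 hr0n
  rcases hside with hU1 | hD
  swap
  · -- every strict upper element is a twin of `y`, so `U` would be a clique
    obtain ⟨u0, rfl⟩ := e.surjective w0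
    have hu0 : u0 ∈ Subgroup.zpowers x := (hU u0).mp (Or.inr hyw0)
    have hu01 : u0 ≠ 1 := fun h => by rw [h, he1] at hw0; exact hw0 (one_mem _)
    have hgen : x ∈ Subgroup.zpowers u0 := by
      by_contra h
      exact hw0 (hD u0 hu0 hu01 h).1
    have htwin : Twin y (e u0) := fun v => ((hdom u0 hu0 hu01 hgen) v).symm
    obtain ⟨q, k, hq, hk, hqk⟩ :=
      (isPrimePow_nat_iff _).mp (isPrimePow_of_twin htwin hyw0 hw0 hy1)
    obtain ⟨a1, a2⟩ := hpart r0 hr0 hr0n
    obtain ⟨b1, b2⟩ := hpart s0 hs0 hs0n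
    obtain ⟨c1, c2⟩ := hD _ (part_mem x r0) a1 a2
    obtain ⟨d1, d2⟩ := hD _ (part_mem x s0) b1 b2
    have hle := Subgroup.zpowers_le.mpr hyw0
    refine parts_not_adj hr0 hs0 hsr0.symm hr0n hs0n ((he _ _).mpr ?_)
    rw [adj_iff (hle c1) (hle d1)]
    obtain ⟨i, -, hi⟩ := (Nat.dvd_prime_pow hq).mp
      (hqk.symm ▸ orderOf_dvd_of_mem_zpowers (hle c1))
    obtain ⟨j, -, hj⟩ := (Nat.dvd_prime_pow hq).mp
      (hqk.symm ▸ orderOf_dvd_of_mem_zpowers (hle d1))
    rw [hi, hj]
    exact (le_total i j).imp (Nat.pow_dvd_pow q) (Nat.pow_dvd_pow q)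
  -- every strict lower element is a twin of `y`
  have hlow : ∀ v ∈ Subgroup.zpowers y, v ≠ 1 → Twin v y := by
    intro v hv hv1
    obtain ⟨u, rfl⟩ := e.surjective v
    have hu : u ∈ Subgroup.zpowers x := (hU u).mp (Or.inl hv)
    have hu1 : u ≠ 1 := fun h => hv1 (h ▸ he1)
    by_cases hxu : x ∈ Subgroup.zpowers u
    · exact hdom u hu hu1 hxu
    · exact absurd hv (hU1 u hu hu1 hxu).2
  -- an element `z` of prime order below `y`
  obtain ⟨p, hp, hpk⟩ := Nat.exists_prime_and_dvd
    (show orderOf y ≠ 1 from fun h => hy1 (orderOf_eq_one_iff.mp h))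
  obtain ⟨z, hzy, hzo⟩ : ∃ z ∈ Subgroup.zpowers y, orderOf z = p :=
    ⟨y ^ (orderOf y / p), Subgroup.pow_mem _ (Subgroup.mem_zpowers y) _, by
      rw [orderOf_pow_of_dvd (Nat.ne_of_gt (Nat.div_pos (Nat.le_of_dvd (orderOf_pos y) hpk) hp.pos))
        (Nat.div_dvd_of_dvd hpk), Nat.div_div_self hpk (orderOf_pos y).ne']⟩
  have hz1 : z ≠ 1 := fun h => by rw [h, orderOf_one] at hzo; exact hp.one_lt.ne hzo
  have hzt : Twin z y := hlow z hzy hz1
  -- twins of `y` have `p`-power order and contain `z`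
  have hCl : ∀ v, v ≠ 1 → Twin v y → z ∈ Subgroup.zpowers v ∧ ∃ i, orderOf v = p ^ i := by
    intro v hv1 hv
    have hvz : Twin z v := fun u => (hzt u).trans (hv u).symm
    have hzv : z ∈ Subgroup.zpowers v := by
      rcases (hvz z).mp (Adj.refl z) with h | h
      · exact h
      · have : orderOf v = p := ((Nat.dvd_prime hp).mp (hzo ▸ orderOf_dvd_of_mem_zpowers h)
          ).resolve_left fun h1 => hv1 (orderOf_eq_one_iff.mp h1)
        exact mem_zpowers_of_dvd (Subgroup.mem_zpowers z) h (by rw [this, hzo])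
    refine ⟨hzv, ?_⟩
    by_cases hvz' : v ∈ Subgroup.zpowers z
    · obtain ⟨i, -, hi⟩ := (Nat.dvd_prime_pow hp).mp
        ((pow_one p).symm ▸ hzo ▸ orderOf_dvd_of_mem_zpowers hvz')
      exact ⟨i, hi⟩
    · obtain ⟨q, k, hq, hk, hqk⟩ :=
        (isPrimePow_nat_iff _).mp (isPrimePow_of_twin hvz hzv hvz' hz1)
      have : p = q := (Nat.prime_dvd_prime_iff_eq hp hq).mp
        (hp.dvd_of_dvd_pow (hqk ▸ hzo ▸ orderOf_dvd_of_mem_zpowers hzv))
      exact ⟨k, this ▸ hqk.symm⟩
  obtain ⟨y', ⟨hy'1, hy't⟩, hy'max⟩ := Set.exists_max_image {v | v ≠ 1 ∧ Twin v y}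
    (fun v => orderOf v) (Set.toFinite _) ⟨y, hy1, fun _ => Iff.rfl⟩
  obtain ⟨hzy', t, ht⟩ := hCl y' hy'1 hy't
  have ht0 : 0 < t := Nat.pos_of_ne_zero fun h =>
    hy'1 (orderOf_eq_one_iff.mp (by rw [ht, h, pow_zero]))
  -- elements inside a cyclic `p`-subgroup are comparable
  have hchain : ∀ a ∈ Subgroup.zpowers y', ∀ b ∈ Subgroup.zpowers y', Adj a b := by
    intro a ha b hb
    rw [adj_iff ha hb]
    obtain ⟨i, -, hi⟩ := (Nat.dvd_prime_pow hp).mp (ht ▸ orderOf_dvd_of_mem_zpowers ha)
    obtain ⟨j, -, hj⟩ := (Nat.dvd_prime_pow hp).mp (ht ▸ orderOf_dvd_of_mem_zpowers hb)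
    rw [hi, hj]
    exact (le_total i j).imp (Nat.pow_dvd_pow p) (Nat.pow_dvd_pow p)
  have hclass : ∀ v, (v ≠ 1 ∧ Twin v y) ↔ (v ∈ Subgroup.zpowers y' ∧ v ≠ 1) := by
    intro v
    constructor
    · rintro ⟨hv1, hv⟩
      refine ⟨?_, hv1⟩
      rcases ((hy't v).trans (hv v).symm).mpr (Adj.refl v) with h | h
      · exact h
      · exact mem_zpowers_of_dvd (Subgroup.mem_zpowers v) h
          (le_antisymm (Nat.le_of_dvd (orderOf_pos v) (orderOf_dvd_of_mem_zpowers h))
            (hy'max v ⟨hv1, hv⟩)).symm.dvd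
    · rintro ⟨hv, hv1⟩
      refine ⟨hv1, fun u => ⟨fun h => ?_, fun h => ?_⟩⟩
      · have hzv : z ∈ Subgroup.zpowers v := by
          rcases hchain z hzy' v hv with h' | h'
          · exact h'
          · have : orderOf v = p := ((Nat.dvd_prime hp).mp (hzo ▸ orderOf_dvd_of_mem_zpowers h')
              ).resolve_left fun h1 => hv1 (orderOf_eq_one_iff.mp h1)
            exact mem_zpowers_of_dvd (Subgroup.mem_zpowers z) h' (by rw [this, hzo])
        refine (hzt u).mp ?_
        rcases h with h | h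
        · exact hchain u (Subgroup.zpowers_le.mpr hv h) z hzy'
        · exact Or.inr (Subgroup.zpowers_le.mpr h hzv)
      · rcases (hy't u).mpr h with h' | h'
        · exact hchain u h' v hv
        · exact Or.inr (Subgroup.zpowers_le.mpr h' hv)
  -- the size of the class
  have hcount : n.totient + 1 = p ^ t := by
    rw [← ht, ← Fintype.card_zpowers (x := y'), hndef, ← card_generators x]
    have h1 : ((Finset.univ.filter fun v => Subgroup.zpowers v = Subgroup.zpowers x).image e) =
        (Finset.univ.filter fun v : H => v ∈ Subgroup.zpowers y').erase 1 := by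
      ext v
      obtain ⟨u, rfl⟩ := e.surjective v
      simp only [Finset.mem_image, Finset.mem_filter, Finset.mem_univ, true_and, Finset.mem_erase]
      rw [and_comm, ← hclass (e u)]
      constructor
      · rintro ⟨u', h', he'⟩
        rw [e.injective he'] at h'
        have hu1 : u ≠ 1 := fun h => by
          rw [h, Subgroup.zpowers_one_eq_bot, eq_comm, Subgroup.zpowers_eq_bot] at h'
          rw [h', orderOf_one] at hndef
          omega
        exact ⟨fun h => hu1 (e.injective (h.trans he1.symm)), (htw u x).mpr (twin_of_zpowers_eq h')⟩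
      · rintro ⟨hu1, hu⟩
        exact ⟨u, (hxtwin u fun h => hu1 (h ▸ he1)).mp ((htw u x).mp hu), rfl⟩
    rw [← Finset.card_image_of_injective _ e.injective, h1,
      Finset.card_erase_add_one (by simp [one_mem]), Fintype.card_subtype]
  refine no_small_class hp ht0 hn hnp hcount fun r hr hrn => ?_
  -- the images of the elements of the full `r`-part
  set P := part x r with hP
  set T := ((Finset.univ.filter fun u : G => u ∈ Subgroup.zpowers P).erase 1).image e with hT
  have hTcard : T.card = r ^ n.factorization r - 1 := by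
    rw [hT, Finset.card_image_of_injective _ e.injective, Finset.card_erase_of_mem (by simp [one_mem]),
      ← Fintype.card_subtype, Fintype.card_zpowers, hP, orderOf_part]
  rw [← hTcard]
  have hPx := Subgroup.zpowers_le.mpr (part_mem x r)
  have hmemT : ∀ {u : G}, u ∈ Subgroup.zpowers P → u ≠ 1 → e u ∈ T := fun {u} hu hu1 => by
    simp [hT, hu, hu1]
  refine dvd_card_of_closed T _ ?_ ?_
  · intro v hv v' hv'
    obtain ⟨u', rfl⟩ := e.surjective v'
    simp only [hT, Finset.mem_image, Finset.mem_erase, Finset.mem_filter, Finset.mem_univ,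
      true_and] at hv
    obtain ⟨u, ⟨hu1, hu⟩, rfl⟩ := hv
    have hu'1 : u' ≠ 1 := fun h => by
      rw [h, he1, Subgroup.zpowers_one_eq_bot, eq_comm, Subgroup.zpowers_eq_bot] at hv'
      exact hu1 (e.injective (hv'.trans he1.symm))
    have htu : Twin u' u := (htw u' u).mp (twin_of_zpowers_eq hv')
    refine hmemT ?_ hu'1
    have hu'x : u' ∈ Subgroup.zpowers x := by
      refine (hS u').mp ?_
      exact ((htu x).mpr ((Or.inr (hPx hu) : Adj x u))).symm
    refine mem_zpowers_of_dvd hu'x (part_mem x r) ?_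
    rw [orderOf_part]
    by_contra hnd
    -- some other prime divides the order of `u'`
    obtain ⟨s, hs, hsu, hsr⟩ : ∃ s, s.Prime ∧ s ∣ orderOf u' ∧ s ≠ r := by
      by_contra hcon
      push Not at hcon
      have h := Nat.eq_prime_pow_of_unique_prime_dvd (p := r) (orderOf_pos u').ne'
        (fun {d} hd hdu => hcon d hd hdu)
      apply hnd
      rw [h]
      exact Nat.pow_dvd_pow r ((hr.pow_dvd_iff_le_factorization hn0).mp
        (h ▸ orderOf_dvd_of_mem_zpowers hu'x))
    obtain ⟨q, hq, hqo⟩ : ∃ q ∈ Subgroup.zpowers u', orderOf q = s :=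
      ⟨u' ^ (orderOf u' / s), Subgroup.pow_mem _ (Subgroup.mem_zpowers u') _, by
        rw [orderOf_pow_of_dvd (Nat.ne_of_gt (Nat.div_pos (Nat.le_of_dvd (orderOf_pos u') hsu) hs.pos))
          (Nat.div_dvd_of_dvd hsu), Nat.div_div_self hsu (orderOf_pos u').ne']⟩
    have h2 := dvd_or_dvd ((htu q).mp (Or.inl hq))
    have huo : orderOf u ∣ r ^ n.factorization r := by
      rw [← orderOf_part]; exact orderOf_dvd_of_mem_zpowers hu
    rw [hqo] at h2
    rcases h2 with h2 | h2
    · exact hsr ((Nat.prime_dvd_prime_iff_eq hs hr).mp (hs.dvd_of_dvd_pow (h2.trans huo)))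
    · rcases (Nat.dvd_prime hs).mp h2 with h3 | h3
      · exact hu1 (orderOf_eq_one_iff.mp h3)
      · exact hsr ((Nat.prime_dvd_prime_iff_eq hs hr).mp (hs.dvd_of_dvd_pow (h3 ▸ huo)))
  · intro v hv
    simp only [hT, Finset.mem_image, Finset.mem_erase, Finset.mem_filter, Finset.mem_univ,
      true_and] at hv
    obtain ⟨u, ⟨hu1, hu⟩, rfl⟩ := hv
    have hxu : x ∉ Subgroup.zpowers u := fun h =>
      (hpart r hr hrn).2 (Subgroup.zpowers_le.mpr hu h)
    have hue1 : e u ≠ 1 := fun h => hu1 (e.injective (h.trans he1.symm))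
    have hnot : e u ∉ Subgroup.zpowers y' := fun h => hxu
      (((hxtwin u hu1).mp ((htw u x).mp ((hclass (e u)).mpr ⟨h, hue1⟩).2)).ge
        (Subgroup.mem_zpowers x))
    refine Nat.totient_dvd_of_dvd (ht ▸ orderOf_dvd_of_mem_zpowers ?_)
    exact (((hy't (e u)).mpr ((hU u).mpr (hPx hu))).resolve_left hnot)

/-- One direction. -/
theorem exists_orderOf (e : G ≃ H) (he : ∀ u v, Adj u v ↔ Adj (e u) (e v)) {p q : ℕ}
    (hp : p.Prime) (hq : q.Prime) (hpq : p ≠ q) (g : G) (hg : orderOf g = p * q) :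
    ∃ h : H, orderOf h = p * q := by
  classical
  -- adjust so that `1 ↦ 1`
  let σ := Equiv.swap (e 1) 1
  have hdomH : ∀ v, Adj (e 1) v := fun v => by
    obtain ⟨u, rfl⟩ := e.surjective v
    exact (he 1 u).mp (adj_one u)
  have hσ : ∀ a b : H, Adj a b ↔ Adj (σ a) (σ b) := by
    have hd : ∀ a, (a = e 1 ∨ a = 1) → ∀ b, Adj a b := by
      rintro a (rfl | rfl) b
      · exact hdomH b
      · exact adj_one b
    intro a b
    by_cases ha : a = e 1 ∨ a = 1
    · refine iff_of_true (hd a ha b) (hd (σ a) ?_ _)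
      rcases ha with rfl | rfl
      · exact Or.inr (Equiv.swap_apply_left _ _)
      · exact Or.inl (Equiv.swap_apply_right _ _)
    by_cases hb : b = e 1 ∨ b = 1
    · refine iff_of_true (hd b hb a).symm (hd (σ b) ?_ _).symm
      rcases hb with rfl | rfl
      · exact Or.inr (Equiv.swap_apply_left _ _)
      · exact Or.inl (Equiv.swap_apply_right _ _)
    push Not at ha hb
    rw [show σ a = a from Equiv.swap_apply_of_ne_of_ne ha.1 ha.2,
      show σ b = b from Equiv.swap_apply_of_ne_of_ne hb.1 hb.2]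
  -- a maximal cyclic subgroup through `g`
  obtain ⟨x, hgx, hmax⟩ := Set.exists_max_image {w : G | g ∈ Subgroup.zpowers w}
    (fun w => orderOf w) (Set.toFinite _) ⟨g, Subgroup.mem_zpowers g⟩
  have hd : p * q ∣ orderOf x := hg ▸ orderOf_dvd_of_mem_zpowers hgx
  have hnp : ¬ IsPrimePow (orderOf x) := fun h => by
    obtain ⟨r, k, hr, -, hrk⟩ := (isPrimePow_nat_iff _).mp h
    exact hpq (((Nat.prime_dvd_prime_iff_eq hp hr).mp
      (hp.dvd_of_dvd_pow (hrk ▸ (dvd_mul_right p q).trans hd))).trans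
      ((Nat.prime_dvd_prime_iff_eq hq hr).mp
      (hq.dvd_of_dvd_pow (hrk ▸ (dvd_mul_left q p).trans hd))).symm)
  have hone : 1 < orderOf x := lt_of_lt_of_le
    (lt_of_lt_of_le hp.one_lt (Nat.le_mul_of_pos_right p hq.pos))
    (Nat.le_of_dvd (orderOf_pos x) hd)
  have hx := orderOf_image (e.trans σ) (fun u v => (he u v).trans (hσ _ _))
    (Equiv.swap_apply_left _ _) x hnp hone (fun u hu => mem_zpowers_of_dvd (Subgroup.mem_zpowers u)
      hu (le_antisymm (Nat.le_of_dvd (orderOf_pos u) (orderOf_dvd_of_mem_zpowers hu))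
        (hmax u (Subgroup.zpowers_le.mpr hu hgx))).symm.dvd)
  exact ⟨_, orderOf_pow_orderOf_div (orderOf_pos ((e.trans σ) x)).ne' (hx.symm ▸ hd)⟩

end CfsgLib.PowerGraph
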